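import Groth.Agent.Lib.PicZeroPts26.Basic

/-!
# Points of a scheme representing `Pic⁰` over an algebraically closed field
-/

set_option autoImplicit false
set_option linter.all false
set_option backward.isDefEq.respectTransparency false
set_option maxHeartbeats 1000000
set_option synthInstance.maxHeartbeats 200000

universe u

open CategoryTheory CategoryTheory.Limits AlgebraicGeometry Opposite TopologicalSpace
open GrothLib.Cube GrothLib.RigDesc26

noncomputable section

namespace GrothLib.PicZeroPts26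

section general

variable {X S : Scheme.{u}} (f : X ⟶ S) (σ : S ⟶ X) (hσ : σ ≫ f = 𝟙 S)
  (ha : ∀ (T : Over S) (U : T.left.Opens), IsIso ((PicF.XTproj f T).app U))
  {P : Over S} {φ : ∀ T : Over S, PicF.Cl (PicF.XT f T) → (T ⟶ P)}
  (hP : AbDual.IsRelPicZeroK Scheme.fppfPrecoverage f P φ)

include hP in
theorem pt_pull' {T T' : Over S} (g : T' ⟶ T) {n : Pic (PicF.XT f T)} (hn : Z f T n) :
    pt f φ T' (pull (PicF.XTmap f g) n) = g ≫ pt f φ T n := by
  obtain ⟨M, hM, rfl⟩ := exists_module n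
  rw [← clsMod_pullback _ hM, pt_clsMod, pt_clsMod]
  exact hP.natural T T' g _ ((Z_clsMod f T hM).1 hn)

include hP in
theorem pt_mul_pull' (T : Over S) {n : Pic (PicF.XT f T)} (hn : Z f T n) (N : Pic T.left) :
    pt f φ T (n * pull (PicF.XTproj f T) N) = pt f φ T n := by
  choose U hU hN using exists_pull_eq_one N
  let 𝒰 := T.left.openCoverOfIsOpenCover U
    (eq_top_iff.2 fun x _ => Opens.mem_iSup.2 ⟨x, hU x⟩)
  refine Over.OverMorphism.ext (𝒰.hom_ext _ _ fun x => ?_)
  have e : pull (PicF.XTmap f (AbDual.ovrHom T (U x).ι)) (n * pull (PicF.XTproj f T) N) =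
      pull (PicF.XTmap f (AbDual.ovrHom T (U x).ι)) n := by
    rw [map_mul, pull_comp _ (PicF.XTproj f T), XTmap_proj, ← pull_comp]
    erw [hN x]
    rw [map_one, mul_one]
  have h := congrArg (pt f φ _) e
  rw [pt_pull' f hP _ (Z_mul_pull f T hn N), pt_pull' f hP _ hn] at h
  exact congrArg CommaMorphism.left h

include hP ha in
theorem eq_of_pt' (T : Over S) {n n' : Pic (PicF.XT f T)} (hn : pull (PicF.secT f σ hσ T) n = 1)
    (hn' : pull (PicF.secT f σ hσ T) n' = 1) (hz : Z f T n) (hz' : Z f T n') (h : pt f φ T n = pt f φ T n') :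
    n = n' := by
  obtain ⟨M, hM, rfl⟩ := exists_module n
  obtain ⟨M', hM', rfl⟩ := exists_module n'
  rw [pt_clsMod, pt_clsMod] at h
  obtain ⟨R, hR, hRu⟩ := hP.locallyInjective T _ _ ((Z_clsMod f T hM).1 hz) ((Z_clsMod f T hM').1 hz') h
  obtain ⟨Y, g, hg, _, _, _⟩ := exists_sigma_of_mem hR
  refine eq_of_mul_inv_eq_one (eq_one_of_XTmap f σ hσ ha T (Sigma.desc g) ?_ ?_)
  · refine eq_one_of_disjoint (fun t => PicF.XTmap f (inc T Y g t)) (cover_inc f T Y g) (disjoint_inc f T Y g) fun t => ?_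
    have e : pull (PicF.XTmap f (AbDual.ovrHom T (g t))) (clsMod hM) =
        pull (PicF.XTmap f (AbDual.ovrHom T (g t))) (clsMod hM') := by
      rw [← clsMod_pullback _ hM, ← clsMod_pullback _ hM']
      exact (clsMod_eq_iff _ _).2 (PicSep26.cl_eq_iff.1 (hRu (g t) (hg t)))
    rw [pull_comp, XTmap_comp, inc_ovrHom, map_mul, map_inv, e, mul_inv_cancel]
  · rw [map_mul, map_inv, hn, hn', inv_one, one_mul]

include hP ha in
theorem exists_pt' (T : Over S) (p : T ⟶ P)
    (hone : ∀ R ∈ Scheme.fppfPrecoverage T.left, ∃ (U : Scheme.{u}) (u : U ⟶ T.left), R u ∧ Flat u ∧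
      LocallyOfFinitePresentation u ∧ Surjective u ∧
      ∀ (Ω : Type u) [Field Ω] [IsAlgClosed Ω] (s : Spec (CommRingCat.of Ω) ⟶ T.left), ∃ s', s' ≫ u = s) :
    ∃ n : Pic (PicF.XT f T), pull (PicF.secT f σ hσ T) n = 1 ∧ Z f T n ∧ pt f φ T n = p := by
  obtain ⟨R, hR, hRu⟩ := hP.locallySurjective T p
  obtain ⟨U, u, hu, _, _, _, hlift⟩ := hone R hR
  obtain ⟨c, hc, hcp⟩ := hRu u hu
  obtain ⟨L, rfl, hL, -⟩ := id hc
  have hz₀ := (Z_clsMod f _ hL).2 hc
  rw [← pt_clsMod f φ _ hL] at hcp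
  let x := clsMod hL * pull (PicF.XTproj f _) (pull (PicF.secT f σ hσ (AbDual.ovr T u)) (clsMod hL))⁻¹
  have hz : Z f _ x := Z_mul_pull f _ hz₀ _
  have hxp : pt f φ _ x = AbDual.ovrHom T u ≫ p := (pt_mul_pull' f hP _ hz₀ _).trans hcp
  have hx : pull (PicF.secT f σ hσ _) x = 1 := by
    rw [map_mul, pull_comp _ (PicF.XTproj f _), secT_proj, pull_id, mul_inv_cancel]
  obtain ⟨n, hn₁, hn₂⟩ := exists_of_XTmap f σ hσ ha T u x hx (eq_of_pt' f σ hσ ha hP _
    (secT_pull f σ hσ _ x hx) (secT_pull f σ hσ _ x hx) (Z_pull f _ hz) (Z_pull f _ hz) (by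
      rw [pt_pull' f hP _ hz, pt_pull' f hP _ hz, hxp, ← Category.assoc, ← Category.assoc]
      congr 1
      exact Over.OverMorphism.ext pullback.condition))
  have hzn : Z f T n := Z_of_pull f T u hlift (by rw [hn₂]; exact hz)
  refine ⟨n, hn₁, hzn, ?_⟩
  have h := congrArg (pt f φ _) hn₂
  rw [pt_pull' f hP _ hzn, hxp] at h
  haveI := Flat.epi_of_flat_of_surjective u
  exact Over.OverMorphism.ext ((cancel_epi u).1 (congrArg CommaMorphism.left h))

end general

section field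

variable {k : Type u} [Field k] [IsAlgClosed k]

/-- All field valued points go through one rational point. -/
def IsPtLike (T : Over (Spec (CommRingCat.of k))) : Prop :=
  ∃ s₀ : Spec (CommRingCat.of k) ⟶ T.left,
    ∀ (Ω : Type u) [Field Ω] (s : Spec (CommRingCat.of Ω) ⟶ T.left), ∃ r, s = r ≫ s₀

theorem exists_member {T : Over (Spec (CommRingCat.of k))} (hT : IsPtLike T) {R : Presieve T.left}
    (hR : R ∈ Scheme.fppfPrecoverage T.left) :
    ∃ (U : Scheme.{u}) (u : U ⟶ T.left), R u ∧ Flat u ∧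
      LocallyOfFinitePresentation u ∧ Surjective u ∧
      ∀ (Ω : Type u) [Field Ω] [IsAlgClosed Ω] (s : Spec (CommRingCat.of Ω) ⟶ T.left), ∃ s', s' ≫ u = s := by
  obtain ⟨s₀, hs₀⟩ := hT
  obtain ⟨U, u, hu, hf, hl, a, ha⟩ := PicSep26.exists_mem_range hR (s₀ (IsLocalRing.closedPoint k))
  haveI : Subsingleton ↥(Spec (CommRingCat.of k)) := inferInstanceAs (Subsingleton (PrimeSpectrum k))
  have hall : ∀ x : T.left, x = s₀ (IsLocalRing.closedPoint k) := fun x => by
    obtain ⟨r, hr⟩ := hs₀ (T.left.residueField x) (T.left.fromSpecResidueField x)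
    rw [← T.left.fromSpecResidueField_apply x (IsLocalRing.closedPoint (T.left.residueField x)), hr,
      Scheme.Hom.comp_apply]
    exact congrArg s₀ (Subsingleton.elim _ _)
  refine ⟨U, u, hu, hf, hl, ⟨fun x => ⟨a, ha.trans (hall x).symm⟩⟩, fun Ω _ _ s => ?_⟩
  let v := pullback.snd u s₀
  haveI : LocallyOfFiniteType v := MorphismProperty.pullback_snd _ _ inferInstance
  obtain ⟨z, hz, -⟩ := Scheme.Pullback.exists_preimage_pullback (f := u) (g := s₀) a _ ha
  haveI : JacobsonSpace ↥(pullback u s₀) := LocallyOfFiniteType.jacobsonSpace v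
  obtain ⟨w, -, hw⟩ := nonempty_inter_closedPoints (X := ↥(pullback u s₀)) ⟨z, Set.mem_univ z⟩
    isOpen_univ.isLocallyClosed
  obtain ⟨r, rfl⟩ := hs₀ Ω s
  exact ⟨r ≫ pointOfClosedPoint v w hw ≫ pullback.fst u s₀, by
    rw [Category.assoc, Category.assoc, pullback.condition, pointOfClosedPoint_comp_assoc]⟩

variable {C : Scheme.{u}} (f : C ⟶ Spec (CommRingCat.of k)) (σ : Spec (CommRingCat.of k) ⟶ C) (hσ : σ ≫ f = 𝟙 _)
  (ha : ∀ (T : Over (Spec (CommRingCat.of k))) (U : T.left.Opens), IsIso ((PicF.XTproj f T).app U))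
  {P : Over (Spec (CommRingCat.of k))} {φ : ∀ T, PicF.Cl (PicF.XT f T) → (T ⟶ P)}
  (hP : AbDual.IsRelPicZeroK Scheme.fppfPrecoverage f P φ)

include ha hP hσ in
/-- Points on a point-like base with trivial Picard group are classes. -/
theorem existsUnique_cls {T : Over (Spec (CommRingCat.of k))} (hT : IsPtLike T) (hpic : ∀ N : Pic T.left, N = 1)
    (g : T ⟶ P) : ∃! n : Pic (PicF.XT f T), Z f T n ∧ pt f φ T n = g := by
  obtain ⟨n, h1, h2, h3⟩ := exists_pt' f σ hσ ha hP T g (fun R hR => exists_member hT hR)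
  exact ⟨n, ⟨h2, h3⟩, fun n' ⟨hz, hn⟩ => eq_of_pt' f σ hσ ha hP T (hpic _) h1 hz h2 (hn.trans h3.symm)⟩

end field

end GrothLib.PicZeroPts26
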