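import Groth.Agent.Lib.Poincare.DualBC
import Groth.Agent.Lib.RigDesc26.Points
import Groth.Agent.Lib.PicTan26.Rig

/-!
# Classes algebraically equivalent to zero on all geometric fibres
-/

set_option autoImplicit false
set_option linter.all false
set_option backward.isDefEq.respectTransparency false
set_option maxHeartbeats 1000000
set_option synthInstance.maxHeartbeats 200000

universe u

open CategoryTheory CategoryTheory.Limits AlgebraicGeometry Opposite TopologicalSpace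
open GrothLib.Cube

noncomputable section

namespace GrothLib.PicZeroPts26

/-- The class contains a module algebraically equivalent to zero. -/
def AEZ {Ω : Type u} [Field Ω] {Y : Scheme.{u}} (p : Y ⟶ Spec (CommRingCat.of Ω)) (y : Pic Y) : Prop :=
  ∃ L : Y.Modules, HasCls L y ∧ @Pic13.IsAlgEquivZero Ω _ Y ⟨p⟩ L

theorem AEZ.pull {Ω : Type u} [Field Ω] {Y Y' : Scheme.{u}} {p : Y ⟶ Spec (CommRingCat.of Ω)}
    {p' : Y' ⟶ Spec (CommRingCat.of Ω)} {y : Pic Y} (h : AEZ p y) (e : Y' ⟶ Y) (he : e ≫ p = p') :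
    AEZ p' (Cube.pull e y) := by
  obtain ⟨L, hL, h⟩ := h
  exact ⟨_, hL.pullback e, Dual.isAlgEquivZero_of_isIso p' p e he hL (hL.pullback e) h⟩

theorem AEZ.mem {Ω : Type u} [Field Ω] {Y : Scheme.{u}} {p : Y ⟶ Spec (CommRingCat.of Ω)} {y : Pic Y}
    (h : AEZ p y) {L : Y.Modules} (hL : HasCls L y) : @Pic13.IsAlgEquivZero Ω _ Y ⟨p⟩ L := by
  obtain ⟨L', hL', h⟩ := h
  exact Dual.isAlgEquivZero_of_isIso p p (𝟙 Y) (Category.id_comp _) hL' (by rwa [pull_id]) h

variable {X S : Scheme.{u}} (f : X ⟶ S)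

/-- The class is algebraically equivalent to zero on every geometric fibre. -/
def Z (T : Over S) (n : Pic (PicF.XT f T)) : Prop :=
  ∀ (Ω : Type u) [Field Ω] [IsAlgClosed Ω] (s : Spec (CommRingCat.of Ω) ⟶ T.left),
    AEZ (pullback.snd (PicF.XTproj f T) s) (pull (pullback.fst (PicF.XTproj f T) s) n)

theorem Z_clsMod (T : Over S) {M : (PicF.XT f T).Modules} (hM : PicF.IsInvertible M) :
    Z f T (clsMod hM) ↔ AbDual.IsPicZeroCl f T (PicF.cl M) := by
  constructor
  · exact fun h => ⟨M, rfl, hM, fun t Ω _ _ s _ => (h Ω s).mem ((hasCls_clsMod hM).pullback _)⟩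
  · rintro ⟨L, hL, hLi, h⟩ Ω _ _ s
    rw [show clsMod hM = clsMod hLi from (clsMod_eq_iff _ _).2 (PicSep26.cl_eq_iff.1 hL.symm)]
    refine ⟨_, (hasCls_clsMod hLi).pullback _, h (s (IsLocalRing.closedPoint Ω)) Ω s ?_⟩
    haveI : Subsingleton ↥(Spec (CommRingCat.of Ω)) := inferInstanceAs (Subsingleton (PrimeSpectrum Ω))
    exact Set.range_eq_singleton_iff.2 fun w => congrArg s (Subsingleton.elim _ _)

theorem Z_one (T : Over S) : Z f T 1 := by
  rw [← (clsMod_eq_one_iff Euler.isInvertible_structure).2 ⟨Iso.refl _⟩, Z_clsMod]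
  exact Dual.isPicZeroCl_one f T ⟨Euler.isInvertible_structure, (clsMod_eq_one_iff _).2 ⟨Iso.refl _⟩⟩

theorem Z_pull {T T' : Over S} (g : T' ⟶ T) {n : Pic (PicF.XT f T)} (h : Z f T n) :
    Z f T' (pull (PicF.XTmap f g) n) := fun Ω _ _ s => by
  let e : pullback (PicF.XTproj f T') s ⟶ pullback (PicF.XTproj f T) (s ≫ g.left) :=
    pullback.map _ _ _ _ (PicF.XTmap f g) (𝟙 _) g.left (RigDesc26.XTmap_proj f g).symm (by rw [Category.id_comp])
  have h' := (h Ω (s ≫ g.left)).pull e ((pullback.lift_snd _ _ _).trans (Category.comp_id _))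
  rw [pull_comp, show e ≫ pullback.fst _ _ = pullback.fst (PicF.XTproj f T') s ≫ PicF.XTmap f g from
    pullback.lift_fst _ _ _, ← pull_comp] at h'
  exact h'

theorem Z_mul_pull (T : Over S) {n : Pic (PicF.XT f T)} (h : Z f T n) (N : Pic T.left) :
    Z f T (n * pull (PicF.XTproj f T) N) := fun Ω _ _ s => by
  rw [map_mul, pull_comp, pullback.condition, ← pull_comp, PicTan26.pic_local_eq_one (pull s N), map_one, mul_one]
  exact h Ω s

/-- Being algebraically equivalent to zero descends when geometric points lift. -/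
theorem Z_of_pull (T : Over S) {U : Scheme.{u}} (u : U ⟶ T.left)
    (hlift : ∀ (Ω : Type u) [Field Ω] [IsAlgClosed Ω] (s : Spec (CommRingCat.of Ω) ⟶ T.left), ∃ s', s' ≫ u = s)
    {n : Pic (PicF.XT f T)} (h : Z f (AbDual.ovr T u) (pull (PicF.XTmap f (AbDual.ovrHom T u)) n)) :
    Z f T n := fun Ω _ _ s => by
  obtain ⟨s', rfl⟩ := hlift Ω s
  have hsq := RigDesc26.isPullback_XTmap f (AbDual.ovrHom T u)
  let l : pullback (PicF.XTproj f T) (s' ≫ u) ⟶ PicF.XT f (AbDual.ovr T u) :=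
    hsq.lift (pullback.fst _ _) (pullback.snd _ _ ≫ s') (by rw [pullback.condition, Category.assoc]; rfl)
  let e : pullback (PicF.XTproj f T) (s' ≫ u) ⟶ pullback (PicF.XTproj f (AbDual.ovr T u)) s' :=
    pullback.lift l (pullback.snd _ _) (hsq.lift_snd _ _ _)
  have h' := (h Ω s').pull e (pullback.lift_snd _ _ _)
  rw [pull_comp, show e ≫ pullback.fst _ _ = l from pullback.lift_fst _ _ _, pull_comp,
    show l ≫ PicF.XTmap f (AbDual.ovrHom T u) = pullback.fst _ _ from hsq.lift_fst _ _ _] at h'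
  exact h'

/-- `IsRelPicZeroK` is stable under base change. -/
theorem isRelPicZeroK_bc {S' : Scheme.{u}} (b : S' ⟶ S) (A At : Over S)
    (φ : ∀ T : Over S, PicF.Cl (PicF.XT A.hom T) → (T ⟶ At))
    (hφ : AbDual.IsRelPicZeroK Scheme.fppfPrecoverage A.hom At φ) :
    AbDual.IsRelPicZeroK Scheme.fppfPrecoverage (DualBC.bcObj b A).hom (DualBC.bcObj b At) (DualBC.phi b φ) := by
  open GrothLib.DualBC in
  refine ⟨fun T T' g c hc => ?_, fun T g => ?_, fun T c c' hc hc' he => ?_⟩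
  · rw [phi, phi, pullCl_comp, ← cmp_natural, ← pullCl_comp,
      hφ.natural (res b T) (res b T') (resMap b g) _ (isPicZeroCl_cmp.1 hc), up_comp]
  · obtain ⟨R, hR, hloc⟩ := hφ.locallySurjective (res b T) (down g)
    refine ⟨R, hR, fun U u hu => ?_⟩
    obtain ⟨c, hc, hce⟩ := hloc u hu
    let j : res b (AbDual.ovr T u) ⟶ AbDual.ovr (res b T) u :=
      Over.homMk (𝟙 U) (by show 𝟙 U ≫ u ≫ T.hom ≫ b = (u ≫ T.hom) ≫ b; simp)
    refine ⟨PicF.pullCl (cmpInv A (AbDual.ovr T u)) (PicF.pullCl (PicF.XTmap A.hom j) c), ?_, ?_⟩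
    · rw [isPicZeroCl_cmp, pullCl_comp, cmp_cmpInv, pullCl_id]
      exact Dual.isPicZeroCl_pull A.hom j hc
    · rw [phi, pullCl_comp, cmp_cmpInv, pullCl_id, hφ.natural _ _ j _ hc, hce, ← Category.assoc]
      rw [show j ≫ AbDual.ovrHom (res b T) u = resMap b (AbDual.ovrHom T u) from
        Over.OverMorphism.ext (Category.id_comp u), up_comp, up_down]
  · have he' : φ (res b T) (PicF.pullCl (cmp A T) c) = φ (res b T) (PicF.pullCl (cmp A T) c') := by
      have h := congrArg down he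
      rwa [phi, phi, down_up, down_up] at h
    obtain ⟨R, hR, hloc⟩ := hφ.locallyInjective (res b T) _ _ (isPicZeroCl_cmp.1 hc) (isPicZeroCl_cmp.1 hc') he'
    refine ⟨R, hR, fun U u hu => ?_⟩
    let j : res b (AbDual.ovr T u) ⟶ AbDual.ovr (res b T) u :=
      Over.homMk (𝟙 U) (by show 𝟙 U ≫ u ≫ T.hom ≫ b = (u ≫ T.hom) ≫ b; simp)
    have h := congrArg (PicF.pullCl (PicF.XTmap A.hom j)) (hloc u hu)
    have e : PicF.XTmap A.hom j ≫ PicF.XTmap A.hom (AbDual.ovrHom (res b T) u) =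
        PicF.XTmap A.hom (resMap b (AbDual.ovrHom T u)) := by
      refine pullback.hom_ext ?_ ?_
      · simp [PicF.XTmap]
      · simp [PicF.XTmap, resMap, j]
    have key : ∀ z, PicF.pullCl (cmpInv A (AbDual.ovr T u)) (PicF.pullCl (PicF.XTmap A.hom j)
        (PicF.pullCl (PicF.XTmap A.hom (AbDual.ovrHom (res b T) u)) (PicF.pullCl (cmp A T) z))) =
        PicF.pullCl (PicF.XTmap (bcObj b A).hom (AbDual.ovrHom T u)) z := fun z => by
      rw [pullCl_comp (PicF.XTmap A.hom j), e, pullCl_comp (PicF.XTmap A.hom _), cmp_natural, pullCl_comp,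
        ← Category.assoc, cmpInv_cmp, Category.id_comp]
    have h' := congrArg (PicF.pullCl (cmpInv A (AbDual.ovr T u))) h
    rwa [key, key] at h'

end GrothLib.PicZeroPts26
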