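import Groth.Agent.Lib.PicZeroPts26.Points
import Groth.Agent.Lib.TorsPic29.PPower
import Groth.Agent.S0981
import Groth.Agent.S1417

/-!
# `Pic⁰` of a curve over an algebraically closed field is smooth of dimension `h¹`
-/

set_option autoImplicit false
set_option linter.all false
set_option backward.isDefEq.respectTransparency false
set_option maxHeartbeats 1000000
set_option synthInstance.maxHeartbeats 200000

universe u

open CategoryTheory CategoryTheory.Limits AlgebraicGeometry Opposite TopologicalSpace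
open GrothLib.Cube GrothLib.RigDesc26

noncomputable section

namespace GrothLib.PicZeroPts26

theorem isIso_app_XT {X S : Scheme.{u}} (f : X ⟶ S) [IsProper f] [Smooth f] [GeometricallyConnected f]
    (T : Over S) (U : T.left.Opens) : IsIso ((PicF.XTproj f T).app U) := by
  haveI : IsProper (PicF.XTproj f T) := inferInstanceAs (IsProper (pullback.snd f T.hom))
  haveI : Smooth (PicF.XTproj f T) := inferInstanceAs (Smooth (pullback.snd f T.hom))
  haveI : GeometricallyConnected (PicF.XTproj f T) :=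
    inferInstanceAs (GeometricallyConnected (pullback.snd f T.hom))
  refine Groth.Agent.S0981.result (PicF.XTproj f T) (fun K _ _ g => ?_) U
  exact ⟨GrothLib.RedSmooth.isReduced_of_smooth (pullback.snd (PicF.XTproj f T) g),
    GeometricallyConnected.connectedSpace_of_subsingleton (pullback.snd (PicF.XTproj f T) g)⟩

theorem Z_of_pull' {X S : Scheme.{u}} (f : X ⟶ S) {T T' : Over S} (g : T' ⟶ T)
    (hlift : ∀ (Ω : Type u) [Field Ω] [IsAlgClosed Ω] (s : Spec (CommRingCat.of Ω) ⟶ T.left), ∃ s', s' ≫ g.left = s)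
    {n : Pic (PicF.XT f T)} (h : Z f T' (pull (PicF.XTmap f g) n)) : Z f T n := by
  refine Z_of_pull f T g.left hlift ?_
  let i : AbDual.ovr T g.left ⟶ T' := Over.homMk (𝟙 _) ((Category.id_comp _).trans (Over.w g).symm)
  have h' := Z_pull f i h
  rw [pull_comp, RigDesc26.XTmap_comp, show i ≫ g = AbDual.ovrHom T g.left from
    Over.OverMorphism.ext (Category.id_comp _)] at h'
  exact h'

variable {k : Type u} [Field k] [IsAlgClosed k]

theorem isPtLike_T0 : IsPtLike (PicTan26.T0 (k := k) k) :=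
  ⟨𝟙 _, fun Ω _ s => ⟨s, (Category.comp_id s).symm⟩⟩

theorem isPtLike_TW (W : Type u) [AddCommGroup W] [Module k W] [Module kᵐᵒᵖ W] [IsCentralScalar k W] :
    IsPtLike (PicTan26.TW (k := k) k W) :=
  ⟨(PicTan26.pt k W).left, fun Ω _ s => PicTan26.factors_pt s⟩

theorem isPtLike_artin (T : Over (Spec (CommRingCat.of k))) [LocallyOfFiniteType T.hom]
    [Subsingleton ↥T.left] [Nonempty ↥T.left] : IsPtLike T := by
  obtain ⟨x⟩ := ‹Nonempty ↥T.left›
  have hx : IsClosed ({x} : Set T.left) :=
    (Set.eq_univ_of_forall fun y => Subsingleton.elim y x : ({x} : Set T.left) = Set.univ) ▸ isClosed_univ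
  refine ⟨pointOfClosedPoint T.hom x hx, fun Ω _ s => ?_⟩
  have h1 := (Scheme.SpecToEquivOfField Ω T.left).left_inv s
  obtain ⟨y, ψ, hψ⟩ : ∃ (y : T.left) (ψ : T.left.residueField y ⟶ CommRingCat.of Ω),
      Spec.map ψ ≫ T.left.fromSpecResidueField y = s := ⟨_, _, h1⟩
  obtain rfl := Subsingleton.elim y x
  refine ⟨Spec.map ψ ≫ Spec.map (residueFieldIsoBase T.hom y hx).inv, ?_⟩
  have e0 : Spec.map (residueFieldIsoBase T.hom y hx).inv ≫ Spec.map (residueFieldIsoBase T.hom y hx).hom = 𝟙 _ := by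
    rw [← Spec.map_comp, Iso.hom_inv_id, Spec.map_id]
  rw [pointOfClosedPoint, Category.assoc, reassoc_of% e0]
  exact hψ.symm

variable {C : Scheme.{u}} (f : C ⟶ Spec (CommRingCat.of k)) [IsProper f] [Smooth f] [GeometricallyConnected f]
  (σ : Spec (CommRingCat.of k) ⟶ C) (hσ : σ ≫ f = 𝟙 _)
  {P : Over (Spec (CommRingCat.of k))} [LocallyOfFiniteType P.hom] {φ : ∀ T, PicF.Cl (PicF.XT f T) → (T ⟶ P)}
  (hP : AbDual.IsRelPicZeroK Scheme.fppfPrecoverage f P φ)

include hσ hP in
theorem smooth (hdim : topologicalKrullDim C ≤ 1) : Smooth P.hom := by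
  have ha := isIso_app_XT f
  refine (Groth.Agent.S1417.result P.hom).2 ?_
  intro B B' _ _ _ _ _ _ ψ ε hψ hker hε α β hβ hc
  haveI : Subsingleton ↥(Spec (CommRingCat.of B')) := ⟨fun a b =>
    PrimeSpectrum.ext ((IsLocalRing.eq_maximalIdeal inferInstance).trans (IsLocalRing.eq_maximalIdeal inferInstance).symm)⟩
  haveI : Nonempty ↥(Spec (CommRingCat.of B')) := ⟨IsLocalRing.closedPoint B'⟩
  let T : Over (Spec (CommRingCat.of k)) := Over.mk β
  let T₀ : Over (Spec (CommRingCat.of k)) := Over.mk (Spec.map (CommRingCat.ofHom ψ) ≫ β)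
  let i : T₀ ⟶ T := Over.homMk (Spec.map (CommRingCat.ofHom ψ)) rfl
  haveI : IsClosedImmersion i.left := IsClosedImmersion.spec_of_surjective _ hψ
  haveI : Subsingleton ↥T.left := ‹Subsingleton ↥(Spec (CommRingCat.of B'))›
  haveI : Nonempty ↥T.left := ‹Nonempty ↥(Spec (CommRingCat.of B'))›
  haveI : LocallyOfFiniteType T.hom := hβ
  haveI : LocallyOfFiniteType β := hβ
  haveI : IsClosedImmersion (Spec.map (CommRingCat.ofHom ψ)) := IsClosedImmersion.spec_of_surjective _ hψ
  haveI : Subsingleton ↥T₀.left := ⟨fun a b => i.left.isClosedEmbedding.injective (Subsingleton.elim _ _)⟩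
  haveI : Nonempty ↥T₀.left := ⟨IsLocalRing.closedPoint B⟩
  haveI : LocallyOfFiniteType T₀.hom := inferInstanceAs (LocallyOfFiniteType (Spec.map (CommRingCat.ofHom ψ) ≫ β))
  have hT := isPtLike_artin T
  have hT₀ := isPtLike_artin T₀
  have hmem : ε ∈ IsLocalRing.maximalIdeal B' := by
    intro hu
    have h0 : ψ ε = 0 := by rw [← RingHom.mem_ker, hker]; exact Ideal.mem_span_singleton_self ε
    exact not_isUnit_zero (h0 ▸ hu.map ψ : IsUnit (0 : B))
  have hsq : RingHom.ker ψ * RingHom.ker ψ = ⊥ := by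
    rw [hker, Ideal.span_singleton_mul_span_singleton, hε ε hmem, Ideal.span_singleton_eq_bot.2 rfl]
  have hlift : ∀ (Ω : Type u) [Field Ω] [IsAlgClosed Ω] (s : Spec (CommRingCat.of Ω) ⟶ T.left),
      ∃ s', s' ≫ i.left = s := fun Ω _ _ s => by
    obtain ⟨ρ, rfl⟩ := Spec.map_surjective s
    have hk : RingHom.ker ψ ≤ RingHom.ker ρ.hom := by
      rw [hker, Ideal.span_le]
      rintro x (rfl : x = ε)
      exact RingHom.mem_ker.2 (mul_self_eq_zero.1 ((map_mul ρ.hom x x).symm.trans (by rw [hε x hmem, map_zero])))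
    refine ⟨Spec.map (CommRingCat.ofHom (RingHom.liftOfSurjective ψ hψ ⟨ρ.hom, hk⟩)), ?_⟩
    show Spec.map _ ≫ Spec.map _ = _
    rw [← Spec.map_comp]
    exact congrArg Spec.map (CommRingCat.hom_ext (RingHom.liftOfRightInverse_comp _ _ _ ⟨ρ.hom, hk⟩))
  let g₀ : T₀ ⟶ P := Over.homMk α hc.symm
  obtain ⟨n₀, ⟨hz₀, hn₀⟩, -⟩ := existsUnique_cls f σ hσ ha hP hT₀ (PicTan26.pic_local_eq_one (R := B)) g₀
  have hpb := RigDesc26.isPullback_XTmap f i
  haveI : IsClosedImmersion (PicF.XTmap f i) :=
    MorphismProperty.of_isPullback (P := @IsClosedImmersion) hpb.flip ‹_›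
  have hsqz := TorsPic29.isSqZero_of_pullback_sq (φ := ψ) (j := PicF.XTmap f i) (g := PicF.XTproj f T)
    (p := PicF.XTproj f T₀) hpb hψ hsq
  haveI : IsProper (PicF.XTproj f T) := inferInstanceAs (IsProper (pullback.snd f T.hom))
  haveI : IsLocallyNoetherian (PicF.XT f T) :=
    LocallyOfFiniteType.isLocallyNoetherian (PicF.XTproj f T ≫ T.hom)
  haveI : IsAffine T.left := inferInstanceAs (IsAffine (Spec (CommRingCat.of B')))
  haveI : CompactSpace ↥(PicF.XT f T) := (quasiCompact_iff_compactSpace (PicF.XTproj f T)).1 inferInstance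
  haveI : IsNoetherian (PicF.XT f T) := {}
  have hd : topologicalKrullDim (PicF.XT f T) ≤ 1 := by
    let x : T.left := (IsLocalRing.closedPoint B' : ↥(Spec (CommRingCat.of B')))
    have hx : IsClosed ({x} : Set T.left) :=
      (Set.eq_univ_of_forall fun y => Subsingleton.elim y x : ({x} : Set T.left) = Set.univ) ▸ isClosed_univ
    let K : Over (Spec (CommRingCat.of k)) := Over.mk (𝟙 (Spec (CommRingCat.of k)))
    let e : K ⟶ T := Over.homMk (pointOfClosedPoint T.hom x hx) (pointOfClosedPoint_comp T.hom x hx)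
    haveI : IsSeparated T.hom := inferInstanceAs (IsSeparated β)
    haveI : IsClosedImmersion e.left :=
      isClosedImmersion_of_comp_eq_id T.hom _ (pointOfClosedPoint_comp T.hom x hx)
    haveI : Surjective e.left := ⟨fun y => ⟨IsLocalRing.closedPoint k, Subsingleton.elim _ _⟩⟩
    have hpbe := RigDesc26.isPullback_XTmap f e
    haveI : IsClosedImmersion (PicF.XTmap f e) :=
      MorphismProperty.of_isPullback (P := @IsClosedImmersion) hpbe.flip ‹_›
    haveI : Surjective (PicF.XTmap f e) :=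
      MorphismProperty.of_isPullback (P := @Surjective) hpbe.flip ‹_›
    haveI : IsIso (pullback.fst f K.hom) := inferInstanceAs (IsIso (pullback.fst f (𝟙 _)))
    have h1 : IsHomeomorph (PicF.XTmap f e) := by
      rw [isHomeomorph_iff_isEmbedding_surjective]
      exact ⟨(PicF.XTmap f e).isClosedEmbedding.isEmbedding, (PicF.XTmap f e).surjective⟩
    have h2 : IsHomeomorph (pullback.fst f K.hom) := (pullback.fst f K.hom).homeomorph.isHomeomorph
    rw [← h1.topologicalKrullDim_eq, h2.topologicalKrullDim_eq]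
    exact hdim
  obtain ⟨n, hn⟩ := TorsPic29.pull_surjective_of_sqZero hd (PicF.XTmap f i) hsqz n₀
  have hz : Z f T n := Z_of_pull' f i hlift (by rw [hn]; exact hz₀)
  refine ⟨(pt f φ T n).left, ?_, Over.w (pt f φ T n)⟩
  have h := congrArg (pt f φ _) hn
  rw [pt_pull' f hP i hz, hn₀] at h
  exact congrArg CommaMorphism.left h

open PicTan26 in
include hσ hP in
/-- The tangent space of `Pic⁰` at a rational point. -/
theorem finrank_cotangent (j : Spec (CommRingCat.of k) ⟶ P.left) (hj : j ≫ P.hom = 𝟙 _) :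
    letI : C.Over (Spec (CommRingCat.of k)) := ⟨f⟩
    Module.finrank (IsLocalRing.ResidueField (P.left.presheaf.stalk (j (IsLocalRing.closedPoint k))))
      (IsLocalRing.CotangentSpace (P.left.presheaf.stalk (j (IsLocalRing.closedPoint k)))) =
      Module.finrank k (Coh.HH C (Coh.structureModule C) 1) := by
  letI : C.Over (Spec (CommRingCat.of k)) := ⟨f⟩
  have ha := isIso_app_XT f
  haveI : IsProper (C ↘ Spec (CommRingCat.of k)) := inferInstanceAs (IsProper f)
  let n := Module.finrank k (Coh.HH (PicF.XT f (T0 (k := k) k)) (Coh.structureModule _) 1)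
  have hn : n = Module.finrank k (Coh.HH C (Coh.structureModule C) 1) :=
    CurveMult.finrank_HH_structure_baseChange (algebraMap k k) (pullback.fst f (T0 (k := k) k).hom)
      (IsPullback.of_hasPullback f (T0 (k := k) k).hom) 1
  rw [← hn]
  have hid : Spec.map (CommRingCat.ofHom (algebraMap k k)) = 𝟙 _ := Spec.map_id _
  let j' : T0 (k := k) k ⟶ P := Over.homMk j (hj.trans hid.symm)
  haveI := PicTan26.isLocalRing_tsze (K := k) (Fin n → k)
  haveI := PicTan26.isLocalRing_tsze (K := k) k
  obtain ⟨cj, ⟨hcj, hcj'⟩, hcju⟩ := existsUnique_cls f σ hσ ha hP isPtLike_T0 (pic_local_eq_one (R := k)) j'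
  obtain ⟨ζ, hζ, hζu⟩ := exists_universal f k
  have hjq : ∀ (W : Type u) [AddCommGroup W] [Module k W] [Module kᵐᵒᵖ W] [IsCentralScalar k W],
      pull (jW f k W) (pull (qW f k W) cj) = cj := fun W _ _ _ _ => by
    rw [pull_comp, ← PicTan26.XTmap_comp, pt_pr, PicTan26.XTmap_id, pull_id]
  have hdeg : ∀ {W : Type u} [AddCommGroup W] [Module k W] [Module kᵐᵒᵖ W] [IsCentralScalar k W]
      (d : Pic (PicF.XT f (TW (k := k) k W))), pull (jW f k W) d = cj → Z f (TW k W) d := by
    intro W _ _ _ _ d h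
    refine Z_of_pull' f (PicTan26.pt k W) (fun Ω _ _ s => ?_) ?_
    · obtain ⟨r, hr⟩ := factors_pt s
      exact ⟨r, hr.symm⟩
    · change Z f _ (pull (jW f k W) d)
      rw [h]
      exact hcj
  let D := pull (qW f k (Fin n → k)) cj * ζ
  have hDj : pull (jW f k (Fin n → k)) D = cj := by rw [map_mul, hζ, mul_one, hjq]
  let G := RigDesc26.pt f φ _ D
  have hG : RigDesc26.pt f φ _ D = G := rfl
  have hGj : PicTan26.pt k (Fin n → k) ≫ G = j' := by
    rw [← hG, ← pt_pull' f hP _ (hdeg D hDj)]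
    exact (congrArg _ hDj).trans hcj'
  refine finrank_cotangent_eq_of_point P.hom j hj G.left ⟨Over.w G, ?_⟩ (dot k) (dot_bijective k n) fun g hg => ?_
  · exact congrArg CommaMorphism.left hGj |>.trans (by rw [hid, Category.id_comp]; rfl)
  · let g' : TW (k := k) k k ⟶ P := Over.homMk g hg.over
    obtain ⟨d, ⟨hd, hd'⟩, hdu⟩ :=
      existsUnique_cls f σ hσ ha hP (isPtLike_TW k) (pic_local_eq_one (R := TrivSqZeroExt k k)) g'
    have hdj : pull (jW f k k) d = cj := by
      refine hcju _ ⟨Z_pull f _ hd, ?_⟩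
      rw [pt_pull' f hP _ hd, hd']
      refine Over.OverMorphism.ext ?_
      show _ ≫ g = j
      exact hg.point.trans (by rw [hid, Category.id_comp])
    obtain ⟨a, ha', hu⟩ := hζu (d * (pull (qW f k k) cj)⁻¹) (by rw [map_mul, map_inv, hdj, hjq, mul_inv_cancel])
    have hmul : ∀ a, pull (PicF.XTmap f (dmap k (dot k a))) D =
        pull (qW f k k) cj * pull (PicF.XTmap f (dmap k (dot k a))) ζ := fun a => by
      rw [map_mul, pull_comp, ← PicTan26.XTmap_comp, dmap_pr]
    have hpt : ∀ a, pull (PicF.XTmap f (dmap k (dot k a))) D = d ↔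
        Spec.map (CommRingCat.ofHom (TrivSqZeroExt.map (dot k a)).toRingHom) ≫ G.left = g := by
      intro a
      constructor
      · intro h
        have h' := congrArg (RigDesc26.pt f φ _) h
        rw [pt_pull' f hP _ (hdeg D hDj), hd'] at h'
        exact congrArg CommaMorphism.left h'
      · intro h
        refine hdu _ ⟨Z_pull f _ (hdeg D hDj), ?_⟩
        rw [pt_pull' f hP _ (hdeg D hDj)]
        exact Over.OverMorphism.ext h
    refine ⟨a, (hpt a).1 ?_, fun a' e => hu a' ?_⟩
    · change pull _ ζ = _ at ha'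
      rw [hmul, ha', mul_inv_cancel_comm_assoc]
    · show pull _ ζ = _
      have h1 := (hpt a').2 e
      rw [hmul] at h1
      rw [← h1, mul_comm, inv_mul_cancel_left]

include hσ hP in
theorem topologicalKrullDim_eq (hdim : topologicalKrullDim C ≤ 1) :
    letI : C.Over (Spec (CommRingCat.of k)) := ⟨f⟩
    topologicalKrullDim P.left = (Module.finrank k (Coh.HH C (Coh.structureModule C) 1) : WithBot ℕ∞) := by
  letI : C.Over (Spec (CommRingCat.of k)) := ⟨f⟩
  haveI := smooth f σ hσ hP hdim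
  haveI : Nonempty P.left := ⟨(RigDesc26.pt f φ (Over.mk (𝟙 (Spec (CommRingCat.of k)))) 1).left
    (IsLocalRing.closedPoint k)⟩
  exact PicTan26.topologicalKrullDim_eq_of_points P.hom fun j hj => finrank_cotangent f σ hσ hP j hj

end GrothLib.PicZeroPts26
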